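import Groth.Agent.KrasnerDvrLib.Main
import Mathlib.FieldTheory.IsSepClosed
import Mathlib.RingTheory.Polynomial.GaussLemma
import Mathlib.RingTheory.IsTensorProduct

/-!
# Separable closures of a discrete valuation field and of its completion
-/

set_option autoImplicit false
set_option linter.all false
set_option backward.isDefEq.respectTransparency false
set_option backward.isDefEq.respectTransparency.types false
set_option maxHeartbeats 1000000

universe u

open IsLocalRing Polynomial
open scoped TensorProduct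

noncomputable section

namespace TraitCplLib

section Field

variable {K K' Ω Ω' : Type u} [Field K] [Field K'] [Field Ω] [Field Ω'] [Algebra K K'] [Algebra K Ω]
  [IsSepClosure K Ω] [Algebra K' Ω'] [Algebra Ω Ω'] [Algebra K Ω'] [IsScalarTower K Ω Ω'] [IsScalarTower K K' Ω']

variable (K K' Ω Ω') in
/-- The comparison map of separable closures. -/
def mu : K' ⊗[K] Ω →ₐ[K'] Ω' :=
  Algebra.TensorProduct.lift (Algebra.ofId K' Ω') (IsScalarTower.toAlgHom K Ω Ω') fun _ _ => Commute.all _ _

theorem mu_tmul (a : K') (w : Ω) : mu K K' Ω Ω' (a ⊗ₜ w) = algebraMap K' Ω' a * algebraMap Ω Ω' w := by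
  simp [mu]

theorem mu_injective (hac : ∀ a : K', IsIntegral K a → a ∈ (algebraMap K K').range) :
    Function.Injective (mu K K' Ω Ω') := by
  classical
  refine (injective_iff_map_eq_zero _).2 fun x hx => ?_
  obtain ⟨S, rfl⟩ := TensorProduct.exists_finset x
  let L : IntermediateField K Ω := IntermediateField.adjoin K ((S.image Prod.snd : Finset Ω) : Set Ω)
  haveI : FiniteDimensional K L :=
    IntermediateField.finiteDimensional_adjoin fun w _ => Algebra.IsIntegral.isIntegral w
  let pb : PowerBasis K L := Field.powerBasisOfFiniteOfSeparable K L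
  let θ : Ω' := algebraMap Ω Ω' (pb.gen : Ω)
  let g := minpoly K' θ
  have hroot : aeval θ (minpoly K pb.gen) = 0 := by
    rw [show θ = ((IsScalarTower.toAlgHom K Ω Ω').comp L.val) pb.gen from rfl, aeval_algHom_apply,
      minpoly.aeval, map_zero]
  have hθint : IsIntegral K' θ := ⟨(minpoly K pb.gen).map (algebraMap K K'),
    (minpoly.monic (Algebra.IsIntegral.isIntegral _)).map _, by
      rw [← aeval_def, aeval_map_algebraMap, hroot]⟩
  have hdvd : g ∣ (minpoly K pb.gen).map (algebraMap K K') :=
    minpoly.dvd K' θ (by rw [aeval_map_algebraMap, hroot])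
  have hlift := integralClosure.mem_lifts_of_monic_of_dvd_map K'
    (minpoly.monic (Algebra.IsIntegral.isIntegral pb.gen)) (minpoly.monic hθint) hdvd
  have hg : g ∈ lifts (algebraMap K K') := (lifts_iff_coeff_lifts g).2 fun i => by
    obtain ⟨c, hc⟩ := (lifts_iff_coeff_lifts g).1 hlift i
    obtain ⟨d, hd⟩ := hac c c.2
    exact ⟨d, hd.trans hc⟩
  obtain ⟨h, hh, hdeg, hmon⟩ := lifts_and_degree_eq_and_monic hg (minpoly.monic hθint)
  have hle : pb.dim ≤ g.natDegree := by
    have h0 : aeval pb.gen h = 0 := by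
      apply ((IsScalarTower.toAlgHom K Ω Ω').comp L.val).toRingHom.injective
      show ((IsScalarTower.toAlgHom K Ω Ω').comp L.val) (aeval pb.gen h) = ((IsScalarTower.toAlgHom K Ω Ω').comp L.val) 0
      rw [map_zero, ← aeval_algHom_apply, ← aeval_map_algebraMap K', hh]
      exact minpoly.aeval K' θ
    rw [← pb.natDegree_minpoly, natDegree_eq_of_degree_eq (p := g) (q := h) hdeg.symm]
    exact natDegree_le_of_dvd (minpoly.dvd K pb.gen h0) hmon.ne_zero
  have hli : LinearIndependent K' fun i : Fin pb.dim => θ ^ (i : ℕ) :=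
    (linearIndependent_pow (K := K') θ).comp (Fin.castLE hle) (Fin.castLE_injective hle)
  let B := Algebra.TensorProduct.basis K' pb.basis
  let ψ : K' ⊗[K] L →ₐ[K'] Ω' := (mu K K' Ω Ω').comp (Algebra.TensorProduct.map (AlgHom.id K' K') L.val)
  have hψ : ∀ i, ψ (B i) = θ ^ (i : ℕ) := fun i => by
    simp [ψ, B, θ, mu_tmul, pb.basis_eq_pow, map_pow]
  have hψi : ∀ y, ψ y = 0 → y = 0 := fun y hy => by
    rw [← B.sum_repr y, map_sum] at hy
    simp only [map_smul, hψ] at hy
    have := Fintype.linearIndependent_iff.1 hli _ hy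
    rw [← B.sum_repr y]
    simp [this]
  have hmem : ∀ i ∈ S, i.2 ∈ L := fun i hi =>
    IntermediateField.subset_adjoin K _ (Finset.mem_coe.2 (Finset.mem_image_of_mem Prod.snd hi))
  let y : K' ⊗[K] L := ∑ i ∈ S.attach, i.1.1 ⊗ₜ[K] (⟨i.1.2, hmem i.1 i.2⟩ : L)
  have hy : Algebra.TensorProduct.map (AlgHom.id K' K') L.val y = ∑ i ∈ S, i.1 ⊗ₜ[K] i.2 := by
    simp only [y, map_sum, Algebra.TensorProduct.map_tmul]
    exact Finset.sum_attach S fun i : K' × Ω => i.1 ⊗ₜ[K] i.2
  rw [← hy] at hx ⊢
  rw [hψi y hx, map_zero]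

theorem apply_mem_range [IsSepClosure K' Ω'] (σ : Ω' ≃ₐ[K'] Ω') {x : Ω'} (hx : x ∈ (mu K K' Ω Ω').range) :
    σ x ∈ (mu K K' Ω Ω').range := by
  obtain ⟨t, rfl⟩ := hx
  show σ (mu K K' Ω Ω' t) ∈ _
  induction t using TensorProduct.induction_on with
  | zero => simp
  | tmul a w =>
    rw [mu_tmul, map_mul, σ.commutes]
    refine mul_mem (Subalgebra.algebraMap_mem _ a) ?_
    haveI : IsGalois K Ω := IsSepClosure.isGalois
    have hroot : ((minpoly K w).map (algebraMap K Ω)).map (algebraMap Ω Ω') |>.IsRoot (σ (algebraMap Ω Ω' w)) := by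
      rw [Polynomial.map_map, ← IsScalarTower.algebraMap_eq, IsRoot, eval_map_algebraMap,
        show σ (algebraMap Ω Ω' w) = ((σ.toAlgHom.restrictScalars K).comp (IsScalarTower.toAlgHom K Ω Ω')) w from rfl,
        aeval_algHom_apply, minpoly.aeval, map_zero]
    obtain ⟨w', hw'⟩ := (Normal.splits inferInstance w).mem_range_of_isRoot
      (Polynomial.map_ne_zero (minpoly.ne_zero (Algebra.IsIntegral.isIntegral w))) hroot
    exact ⟨1 ⊗ₜ w', by simp [mu_tmul, hw']⟩
  | add a b ha hb => rw [map_add, map_add]; exact add_mem ha hb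

end Field

section DVR

variable {R R' : Type u} [CommRing R] [CommRing R'] [IsDomain R'] [IsDiscreteValuationRing R'] [Algebra R R']
  [IsAdicComplete (maximalIdeal R') R'] {K K' Ω Ω' : Type u} [Field K] [Field K'] [Field Ω] [Field Ω']
  [Algebra R K] [Algebra R' K'] [IsFractionRing R' K'] [Algebra K K'] [Algebra R K'] [IsScalarTower R K K']
  [IsScalarTower R R' K'] [Algebra K Ω] [IsSepClosure K Ω] [Algebra K' Ω'] [IsSepClosure K' Ω'] [Algebra Ω Ω']
  [Algebra K Ω'] [IsScalarTower K Ω Ω'] [IsScalarTower K K' Ω'] [Algebra R' Ω'] [IsScalarTower R' K' Ω']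

theorem mu_surjective (happrox : ∀ (n : ℕ) (x : R'), ∃ a : R, x - algebraMap R R' a ∈ maximalIdeal R' ^ n) :
    Function.Surjective (mu K K' Ω Ω') := by
  haveI : IsGalois K' Ω' := IsSepClosure.isGalois
  haveI : Algebra.IsAlgebraic R' Ω' :=
    (IsFractionRing.comap_isAlgebraic_iff (A := R') (K := K') (C := Ω')).2 inferInstance
  suffices H : ∀ x : Ω', IsIntegral R' x → x ∈ (mu K K' Ω Ω').range by
    intro x
    obtain ⟨a, ha, hint⟩ := (Algebra.IsAlgebraic.isAlgebraic (R := R') x).exists_integral_multiple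
    have hne : algebraMap R' K' a ≠ 0 := by simpa using (IsFractionRing.injective R' K').ne ha
    have hx : x = (algebraMap R' K' a)⁻¹ • (a • x) := by
      rw [← algebraMap_smul K' a x, smul_smul, inv_mul_cancel₀ hne, one_smul]
    rw [hx]
    exact Subalgebra.smul_mem _ (H _ hint) _
  intro x hx
  obtain ⟨ϖ, hϖ⟩ := IsDiscreteValuationRing.exists_irreducible R'
  let f := minpoly R' x
  have hfm : f.Monic := minpoly.monic hx
  have hfK : f.map (algebraMap R' K') = minpoly K' x := (minpoly.isIntegrallyClosed_eq_field_fractions' K' hx).symm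
  have hsep : (f.map (algebraMap R' K')).Separable := by rw [hfK]; exact Algebra.IsSeparable.isSeparable K' x
  obtain ⟨A, B, hAB⟩ := hsep
  obtain ⟨s₁, hs₁, h₁⟩ := IsLocalization.integerNormalization_spec (M := nonZeroDivisors R') A
  obtain ⟨s₂, hs₂, h₂⟩ := IsLocalization.integerNormalization_spec (M := nonZeroDivisors R') B
  set U := IsLocalization.integerNormalization (nonZeroDivisors R') A
  set V := IsLocalization.integerNormalization (nonZeroDivisors R') B
  obtain ⟨e, ε, hε⟩ := IsDiscreteValuationRing.eq_unit_mul_pow_irreducible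
    (nonZeroDivisors.ne_zero (mul_mem hs₁ hs₂)) hϖ
  have hbez : (C (s₂ * ↑ε⁻¹) * U) * f + (C (s₁ * ↑ε⁻¹) * V) * derivative f = C (ϖ ^ e) := by
    apply map_injective (algebraMap R' K') (IsFractionRing.injective R' K')
    have hε' : (s₁ * s₂) * (↑ε⁻¹ : R') = ϖ ^ e := by rw [hε, mul_comm, ← mul_assoc, Units.inv_mul, one_mul]
    rw [← hε']
    simp only [Polynomial.map_add, Polynomial.map_mul, map_C, ← derivative_map, h₁, h₂, map_mul]
    rw [Algebra.smul_def, Algebra.smul_def, IsScalarTower.algebraMap_apply R' K' K'[X] s₁,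
      IsScalarTower.algebraMap_apply R' K' K'[X] s₂, ← C_eq_algebraMap]
    linear_combination (C (algebraMap R' K' s₁) * C (algebraMap R' K' s₂) * C (algebraMap R' K' ↑ε⁻¹)) * hAB
  set u := C (s₂ * ↑ε⁻¹) * U
  set v := C (s₁ * ↑ε⁻¹) * V
  let m := 2 * e + 1
  have hap : ∀ i, ∃ a : R, ∃ z : R', algebraMap R R' a = f.coeff i + ϖ ^ m * z := fun i => by
    obtain ⟨a, ha⟩ := happrox m (f.coeff i)
    rw [hϖ.maximalIdeal_eq, Ideal.span_singleton_pow] at ha
    obtain ⟨z, hz⟩ := Ideal.mem_span_singleton'.1 ha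
    exact ⟨a, -z, by linear_combination hz⟩
  choose a z haz using hap
  let h : R[X] := X ^ f.natDegree + ∑ i ∈ Finset.range f.natDegree, C (a i) * X ^ i
  let q : R'[X] := ∑ i ∈ Finset.range f.natDegree, C (z i) * X ^ i
  have hh : h.map (algebraMap R R') = f + C (ϖ ^ m) * q := by
    conv_rhs => rw [hfm.as_sum]
    simp only [h, q, Polynomial.map_add, Polynomial.map_pow, map_X, Polynomial.map_sum, Polynomial.map_mul, map_C,
      haz, Finset.mul_sum]
    rw [add_assoc, ← Finset.sum_add_distrib]
    congr 1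
    refine Finset.sum_congr rfl fun i _ => ?_
    simp only [map_add, map_mul, add_mul, mul_assoc]
  have hval : ∀ {D : Type u} [CommRing D] [Algebra R' D] (β : D), aeval β (h.map (algebraMap R R')) = 0 →
      aeval β f = -(algebraMap R' D ϖ ^ m * aeval β q) ∧
      aeval β v * aeval β (derivative f) =
        algebraMap R' D ϖ ^ e + algebraMap R' D ϖ ^ m * (aeval β u * aeval β q) := by
    intro D _ _ β hβ
    rw [hh, map_add, map_mul, aeval_C, map_pow] at hβ
    have h2 := congrArg (aeval β) hbez
    refine ⟨eq_neg_of_add_eq_zero_left hβ, ?_⟩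
    simp only [map_add, map_mul, map_pow, aeval_C] at h2 hβ ⊢
    simp only [u, v, map_mul, aeval_C] at h2 ⊢
    linear_combination h2 - (algebraMap R' D s₂ * algebraMap R' D ↑ε⁻¹ * aeval β U) * hβ
  have hmap : ((h.map (algebraMap R K)).map (algebraMap K K')) = (h.map (algebraMap R R')).map (algebraMap R' K') := by
    rw [Polynomial.map_map, Polynomial.map_map, ← IsScalarTower.algebraMap_eq, ← IsScalarTower.algebraMap_eq]
  have hhsep : (h.map (algebraMap R K)).Separable := by
    rw [← separable_map (algebraMap K K'), hmap, separable_def]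
    refine (Polynomial.isCoprime_iff_aeval_ne_zero_of_isAlgClosed (k := K') (AlgebraicClosure K') _ _).2 ?_
    intro β
    by_contra hc
    obtain ⟨hc₁, hc₂⟩ := not_or.1 hc
    rw [not_not, aeval_map_algebraMap] at hc₁
    rw [not_not, derivative_map, aeval_map_algebraMap, hh, derivative_add, derivative_C_mul, map_add, map_mul,
      aeval_C, map_pow] at hc₂
    obtain ⟨-, h2⟩ := hval β hc₁
    have hβ : IsIntegral R' β := ⟨h.map (algebraMap R R'), by
      rw [hh]
      refine hfm.add_of_left ?_
      refine (degree_mul_le _ _).trans_lt (lt_of_le_of_lt (add_le_add degree_C_le le_rfl) ?_)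
      rw [zero_add, degree_eq_natDegree hfm.ne_zero]
      exact (degree_sum_le _ _).trans_lt ((Finset.sup_lt_iff (WithBot.bot_lt_coe _)).2 fun i hi =>
        (degree_C_mul_X_pow_le i (z i)).trans_lt (by exact_mod_cast Finset.mem_range.1 hi)), hc₁⟩
    let w := aeval β u * aeval β q + aeval β v * aeval β (derivative q)
    have hw : IsIntegral R' (algebraMap R' (AlgebraicClosure K') ϖ ^ e * w) := by
      have hp : ∀ p : R'[X], IsIntegral R' (aeval β p) := fun p => by
        exact IsIntegral.of_mem_of_fg _ hβ.fg_adjoin_singleton _ (aeval_mem_adjoin_singleton R' β)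
      exact ((isIntegral_algebraMap).pow e).mul ((hp u).mul (hp q) |>.add ((hp v).mul (hp _)))
    have key : algebraMap R' (AlgebraicClosure K') ϖ * (algebraMap R' (AlgebraicClosure K') ϖ ^ e * w) = -1 := by
      have hne : algebraMap R' (AlgebraicClosure K') ϖ ^ e ≠ 0 := pow_ne_zero _ (by
        rw [IsScalarTower.algebraMap_apply R' K']
        simpa using (IsFractionRing.injective R' K').ne hϖ.ne_zero)
      apply mul_left_cancel₀ hne
      dsimp only [w, m] at hc₂ h2 ⊢
      linear_combination (aeval β v) * hc₂ - h2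
    have hinv : algebraMap R' (AlgebraicClosure K') ϖ ^ e * w =
        algebraMap K' (AlgebraicClosure K') (-(algebraMap R' K' ϖ)⁻¹) := by
      have hne : algebraMap R' K' ϖ ≠ 0 := by simpa using (IsFractionRing.injective R' K').ne hϖ.ne_zero
      rw [map_neg, map_inv₀, ← IsScalarTower.algebraMap_apply]
      have hne' : algebraMap R' (AlgebraicClosure K') ϖ ≠ 0 := by
        rw [IsScalarTower.algebraMap_apply R' K']
        simpa using hne
      exact mul_left_cancel₀ hne' (by rw [key, mul_neg, mul_inv_cancel₀ hne'])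
    rw [hinv, isIntegral_algebraMap_iff (algebraMap K' (AlgebraicClosure K')).injective,
      IsIntegrallyClosed.isIntegral_iff] at hw
    obtain ⟨r, hr⟩ := hw
    refine hϖ.not_isUnit (IsUnit.of_mul_eq_one (-r) ?_)
    apply IsFractionRing.injective R' K'
    rw [map_mul, map_neg, hr, neg_neg, map_one, mul_inv_cancel₀]
    simpa using (IsFractionRing.injective R' K').ne hϖ.ne_zero
  haveI := IsSepClosure.sep_closed K (K := Ω)
  have hdeg : (h.map (algebraMap R K)).degree ≠ 0 := by
    intro h0
    have h1 : (h.map (algebraMap R R')).degree ≤ 0 := by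
      rw [← degree_map_eq_of_injective (IsFractionRing.injective R' K'), ← hmap, degree_map_eq_of_injective
        (algebraMap K K').injective, h0]
    have h2 : (h.map (algebraMap R R')).coeff f.natDegree = 1 := by
      rw [hh, coeff_add, coeff_natDegree, hfm.leadingCoeff, coeff_C_mul, finset_sum_coeff,
        Finset.sum_eq_zero, mul_zero, add_zero]
      intro i hi
      rw [coeff_C_mul, coeff_X_pow, if_neg (Finset.mem_range.1 hi).ne', mul_zero]
    have h3 := minpoly.natDegree_pos hx
    rw [coeff_eq_zero_of_degree_lt (h1.trans_lt (by exact_mod_cast h3))] at h2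
    exact zero_ne_one h2
  obtain ⟨ω, hω⟩ := IsSepClosed.exists_aeval_eq_zero Ω (h.map (algebraMap R K)) hdeg hhsep
  let β₀ : Ω' := algebraMap Ω Ω' ω
  have hβ₀ : aeval β₀ (h.map (algebraMap R R')) = 0 := by
    rw [← aeval_map_algebraMap K', ← hmap, aeval_map_algebraMap]
    show aeval ((IsScalarTower.toAlgHom K Ω Ω') ω) _ = 0
    rw [aeval_algHom_apply, hω, map_zero]
  let F : IntermediateField K' Ω' := IntermediateField.adjoin K' {β₀}
  haveI : FiniteDimensional K' F := IntermediateField.adjoin.finiteDimensional (Algebra.IsIntegral.isIntegral β₀)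
  haveI : IsScalarTower R' F Ω' := IsScalarTower.of_algebraMap_eq fun r => by
    rw [IsScalarTower.algebraMap_apply R' K' F, ← IsScalarTower.algebraMap_apply K' F Ω', ← IsScalarTower.algebraMap_apply]
  let O := integralClosure R' F
  haveI : IsIntegralClosure O R' F := inferInstance
  haveI : Module.Finite R' O := IsIntegralClosure.finite R' K' F O
  haveI := KrasnerDvrLib.isAdicComplete_span hϖ O
  let βF : F := IntermediateField.AdjoinSimple.gen K' β₀
  have hβF : IsIntegral R' βF := by
    rw [← isIntegral_algebraMap_iff (A := F) (B := Ω') (algebraMap F Ω').injective]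
    refine ⟨h.map (algebraMap R R'), ?_, hβ₀⟩
    rw [hh]
    refine hfm.add_of_left ?_
    refine (degree_mul_le _ _).trans_lt (lt_of_le_of_lt (add_le_add degree_C_le le_rfl) ?_)
    rw [zero_add, degree_eq_natDegree hfm.ne_zero]
    exact (degree_sum_le _ _).trans_lt ((Finset.sup_lt_iff (WithBot.bot_lt_coe _)).2 fun i hi =>
      (degree_C_mul_X_pow_le i (z i)).trans_lt (by exact_mod_cast Finset.mem_range.1 hi))
  let ι : O →ₐ[R'] Ω' := ((IsScalarTower.toAlgHom K' F Ω').restrictScalars R').comp O.val
  let c : O := ⟨βF, hβF⟩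
  have hc : aeval c (h.map (algebraMap R R')) = 0 := by
    apply Function.Injective.comp (algebraMap F Ω').injective Subtype.val_injective
    show ι (aeval c _) = ι 0
    rw [map_zero, ← aeval_algHom_apply]
    exact hβ₀
  obtain ⟨hf₁, hf₂⟩ := hval c hc
  obtain ⟨c', hc'⟩ := KrasnerDvrLib.exists_root (algebraMap R' O ϖ) (f.map (algebraMap R' O)) c e m (by omega)
    (aeval c v) (by
      rw [derivative_map, eval_map_algebraMap, mul_comm, hf₂, add_sub_cancel_left]
      exact Ideal.mem_span_singleton.2 (dvd_mul_of_dvd_left (pow_dvd_pow _ (by omega)) _)) (by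
      rw [eval_map_algebraMap, hf₁]
      exact neg_mem (Ideal.mem_span_singleton.2 (dvd_mul_right _ _)))
  rw [eval_map_algebraMap] at hc'
  have hroot : aeval (ι c') (minpoly K' x) = 0 := by
    rw [← hfK, aeval_map_algebraMap, aeval_algHom_apply, hc', map_zero]
  obtain ⟨σ, hσ⟩ := minpoly.exists_algEquiv_of_root (Algebra.IsAlgebraic.isAlgebraic (R := K') x) hroot
  rw [← hσ]
  refine apply_mem_range σ ?_
  have hF : F.toSubalgebra ≤ (mu K K' Ω Ω').range := by
    rw [IntermediateField.adjoin_simple_toSubalgebra_of_isAlgebraic (Algebra.IsAlgebraic.isAlgebraic (R := K') β₀)]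
    exact Algebra.adjoin_le (Set.singleton_subset_iff.2 ⟨1 ⊗ₜ ω, by simp [mu_tmul, β₀]⟩)
  exact hF (c'.1.2)

end DVR

end TraitCplLib
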