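import Groth.Agent.TraitCplLib.Alg
import Groth.Agent.TraitCplLib.Field
import Groth.Agent.EtRegAcycLib.Main
import Groth.Agent.EtBcBridgeLib.Main
import Groth.Agent.EtSmAcycLib.Apps
import Groth.Prelude.Def_VanCyc

/-!
# Nearby cycles and completion of the trait
-/

set_option autoImplicit false
set_option linter.all false
set_option backward.isDefEq.respectTransparency false
set_option backward.isDefEq.respectTransparency.types false
set_option maxHeartbeats 1000000

universe u

open CategoryTheory CategoryTheory.Limits AlgebraicGeometry IsLocalRing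
open scoped TensorProduct

noncomputable section

namespace TraitCplLib

/-- For the trait and its completion the separable closures form a cocartesian square. -/
theorem isPushout_sepClosure (R K Ω : Type u) [CommRing R] [IsDomain R] [IsDiscreteValuationRing R]
    [HenselianLocalRing R] (hG : CAlg.IsGRing R) [IsDomain (EGA4.Cpl R)] [IsDiscreteValuationRing (EGA4.Cpl R)]
    [Field K] [Algebra R K] [IsFractionRing R K] [Field Ω] [Algebra K Ω] [IsSepClosure K Ω] [Algebra R Ω]
    [IsScalarTower R K Ω]
    (K' Ω' : Type u) [Field K'] [Algebra (EGA4.Cpl R) K'] [IsFractionRing (EGA4.Cpl R) K'] [Field Ω']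
    [Algebra K' Ω'] [IsSepClosure K' Ω'] [Algebra (EGA4.Cpl R) Ω'] [IsScalarTower (EGA4.Cpl R) K' Ω']
    [Algebra Ω Ω'] [Algebra R Ω'] [IsScalarTower R Ω Ω'] [IsScalarTower R (EGA4.Cpl R) Ω'] :
    Algebra.IsPushout R Ω (EGA4.Cpl R) Ω' := by
  let R' := EGA4.Cpl R
  haveI : IsNoetherianRing R := hG.1
  have hinj : Function.Injective (algebraMap R R') := AdicCompletion.of_injective _ _
  letI : Algebra R K' := ((algebraMap R' K').comp (algebraMap R R')).toAlgebra
  haveI : IsScalarTower R R' K' := IsScalarTower.of_algebraMap_eq' rfl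
  have hinjK : Function.Injective (algebraMap R K') := (IsFractionRing.injective R' K').comp hinj
  letI : Algebra K K' := (IsFractionRing.lift hinjK : K →+* K').toAlgebra
  haveI : IsScalarTower R K K' :=
    IsScalarTower.of_algebraMap_eq fun r => (IsFractionRing.lift_algebraMap hinjK r).symm
  letI : Algebra K Ω' := ((algebraMap Ω Ω').comp (algebraMap K Ω)).toAlgebra
  haveI : IsScalarTower K Ω Ω' := IsScalarTower.of_algebraMap_eq' rfl
  haveI : IsScalarTower R K' Ω' := IsScalarTower.of_algebraMap_eq fun r => by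
    rw [IsScalarTower.algebraMap_apply R R' Ω', IsScalarTower.algebraMap_apply R' K' Ω',
      IsScalarTower.algebraMap_apply R R' K']
  haveI : IsScalarTower K K' Ω' := by
    refine IsScalarTower.of_algebraMap_eq' (IsLocalization.ringHom_ext (nonZeroDivisors R) (RingHom.ext fun r => ?_))
    show algebraMap Ω Ω' (algebraMap K Ω (algebraMap R K r)) = algebraMap K' Ω' (algebraMap K K' (algebraMap R K r))
    rw [← IsScalarTower.algebraMap_apply R K Ω, ← IsScalarTower.algebraMap_apply R Ω Ω',
      ← IsScalarTower.algebraMap_apply R K K', ← IsScalarTower.algebraMap_apply R K' Ω']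
  haveI : IsScalarTower R K Ω' := IsScalarTower.of_algebraMap_eq fun r => by
    rw [IsScalarTower.algebraMap_apply R K' Ω', IsScalarTower.algebraMap_apply R K K',
      ← IsScalarTower.algebraMap_apply K K' Ω']
  haveI : IsAdicComplete (maximalIdeal R') R' := by
    haveI := AdicCompletion.isAdicComplete (M := R) (maximalIdeal R).fg_of_isNoetherianRing
    rw [show maximalIdeal R' = (maximalIdeal R).map (algebraMap R R') from AdicCompletion.maximalIdeal_eq_map]
    exact (IsAdicComplete.map_algebraMap_iff (maximalIdeal R) R').2 inferInstance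
  obtain ⟨ϖ, hϖ⟩ := IsDiscreteValuationRing.exists_irreducible R
  have hmax : maximalIdeal R' = Ideal.span {algebraMap R R' ϖ} := by
    rw [show maximalIdeal R' = (maximalIdeal R).map (algebraMap R R') from AdicCompletion.maximalIdeal_eq_map]
    exact (congrArg (Ideal.map (algebraMap R R')) hϖ.maximalIdeal_eq).trans (by rw [Ideal.map_span, Set.image_singleton])
  haveI : IsLocalization (Algebra.algebraMapSubmonoid R' (nonZeroDivisors R)) K' := by
    refine (isLocalization_iff _ _).2 ⟨fun y => ?_, fun z => ?_, fun {x y} h => ⟨1, by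
      rw [IsFractionRing.injective R' K' h]⟩⟩
    · obtain ⟨_, r, hr, rfl⟩ := y
      refine isUnit_iff_ne_zero.2 ?_
      rw [← IsScalarTower.algebraMap_apply]
      simpa using hinjK.ne (nonZeroDivisors.ne_zero hr)
    · obtain ⟨a, b, hb, rfl⟩ := IsFractionRing.div_surjective (A := R') z
      obtain ⟨n, ε, hn⟩ := IsDiscreteValuationRing.eq_unit_mul_pow_irreducible (nonZeroDivisors.ne_zero hb)
        (IsDiscreteValuationRing.irreducible_of_span_eq_maximalIdeal _ (fun h => hϖ.ne_zero (hinj (h.trans (map_zero _).symm))) hmax)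
      refine ⟨⟨a * ↑ε⁻¹, ⟨algebraMap R R' (ϖ ^ n), ϖ ^ n, mem_nonZeroDivisors_of_ne_zero (pow_ne_zero _ hϖ.ne_zero), rfl⟩⟩, ?_⟩
      have hb0 : algebraMap R' K' b ≠ 0 := IsFractionRing.to_map_ne_zero_of_mem_nonZeroDivisors hb
      show algebraMap R' K' a / algebraMap R' K' b * algebraMap R' K' (algebraMap R R' (ϖ ^ n)) = _
      rw [div_mul_eq_mul_div, div_eq_iff hb0, ← map_mul, ← map_mul]
      refine congrArg (algebraMap R' K') (?_ : a * algebraMap R R' (ϖ ^ n) = a * ↑ε⁻¹ * b)
      rw [hn, map_pow, mul_assoc, ← mul_assoc (↑ε⁻¹ : R'), Units.inv_mul, one_mul]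
  haveI : Algebra.IsPushout R K R' K' := (Algebra.isPushout_of_isLocalization (nonZeroDivisors R) K R' K').symm
  have hac : ∀ a : K', IsIntegral K a → a ∈ (algebraMap K K').range := fun a ha => by
    haveI : Algebra.IsAlgebraic R K := IsLocalization.isAlgebraic K (nonZeroDivisors R)
    obtain ⟨c, hc, hint⟩ := (ha.isAlgebraic.restrictScalars R).exists_integral_multiple
    obtain ⟨b, hb⟩ := IsIntegrallyClosed.isIntegral_iff.1 (hint.tower_top (A := R'))
    have hbint : IsIntegral R b := (isIntegral_algebraMap_iff (IsFractionRing.injective R' K')).1 (by rw [hb]; exact hint)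
    obtain ⟨r, hr⟩ := mem_range_of_isIntegral R hG b hbint
    refine ⟨algebraMap R K r / algebraMap R K c, ?_⟩
    rw [map_div₀, ← IsScalarTower.algebraMap_apply, ← IsScalarTower.algebraMap_apply,
      IsScalarTower.algebraMap_apply R R' K', hr, hb, Algebra.smul_def, mul_div_cancel_left₀]
    simpa using hinjK.ne hc
  haveI : Algebra.IsPushout K K' Ω Ω' := ⟨IsBaseChange.of_equiv
    (AlgEquiv.ofBijective (mu K K' Ω Ω') ⟨mu_injective hac,
      mu_surjective (R := R) (R' := R') (exists_approx R)⟩).toLinearEquiv fun w => by simp [mu_tmul]⟩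
  exact (Algebra.IsPushout.comp_iff (R := R) (S := K) (R' := R') (S' := K') (T := Ω) (T' := Ω')).2
    (Algebra.IsPushout.symm ‹Algebra.IsPushout K K' Ω Ω'›)

open VanCyc in
/-- The geometric generic fibres form a base change square. -/
theorem isPullback_geomChange {R R' Ω Ω' : Type u} [CommRing R] [CommRing R'] [Algebra R R'] [Field Ω] [Field Ω']
    [Algebra R Ω] [Algebra R' Ω'] [Algebra Ω Ω'] [Algebra R Ω'] [IsScalarTower R Ω Ω'] [IsScalarTower R R' Ω']
    [Algebra.IsPushout R Ω R' Ω'] {X : Scheme.{u}} (f : X ⟶ Spec (CommRingCat.of R)) :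
    IsPullback (geomChange R' Ω Ω' f) (jA R' (bcf R' f) Ω') (jA R f Ω) (bcπ R' f) := by
  have sq : IsPullback (toS Ω Ω') (toS R' Ω') (toS R Ω) (toS R R') :=
    isPullback_SpecMap_of_isPushout _ _ _ _ (CommRingCat.isPushout_of_isPushout R Ω R' Ω')
  have h1 : geomChange R' Ω Ω' f ≫ pullback.snd f (toS R Ω) = pullback.snd (bcf R' f) (toS R' Ω') ≫ toS Ω Ω' :=
    pullback.lift_snd _ _ _
  have outer : IsPullback (geomChange R' Ω Ω' f ≫ pullback.fst f (toS R Ω)) (pullback.snd (bcf R' f) (toS R' Ω')) f
      (toS Ω Ω' ≫ toS R Ω) := by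
    rw [geomChange_jA, sq.w]
    exact (IsPullback.of_hasPullback (bcf R' f) (toS R' Ω')).paste_horiz (IsPullback.of_hasPullback f (toS R R'))
  have h2 := (outer.of_right h1 (IsPullback.of_hasPullback f (toS R Ω))).paste_vert sq
  rw [← pullback.condition, ← pullback.condition] at h2
  exact IsPullback.of_bot h2 (geomChange_jA R' Ω Ω' f) (IsPullback.of_hasPullback f (toS R R'))

end TraitCplLib
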