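import Groth.Prelude.Def_EGA4b
import Groth.Prelude.Def_Smoothing
import Groth.Agent.TransLib.Popescu
import Groth.Agent.TransLib.GRingLocal
import Groth.Agent.GabberRigidLib.Completion
import Groth.Agent.S0597

/-!
# The completion of an excellent discrete valuation ring
-/

set_option autoImplicit false
set_option linter.all false
set_option backward.isDefEq.respectTransparency false
set_option backward.isDefEq.respectTransparency.types false
set_option maxHeartbeats 1000000

universe u

open IsLocalRing Polynomial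
open scoped TensorProduct

noncomputable section

namespace TraitCplLib

/-- An algebra whose structure map is bijective is ind-smooth. -/
theorem indSmooth_of_bijective {R Λ : Type u} [CommRing R] [CommRing Λ] [Algebra R Λ]
    (h : Function.Bijective (algebraMap R Λ)) : Smoothing.IndSmooth R Λ := by
  intro A _ _ _ f
  let e : R ≃ₐ[R] Λ := AlgEquiv.ofBijective (Algebra.ofId R Λ) h
  exact ⟨R, inferInstance, inferInstance, inferInstance, e.symm.toAlgHom.comp f, e.toAlgHom,
    AlgHom.ext fun a => e.apply_symm_apply (f a)⟩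

variable (R : Type u) [CommRing R] [IsDomain R] [IsDiscreteValuationRing R] [IsDomain (EGA4.Cpl R)]
  [IsDiscreteValuationRing (EGA4.Cpl R)]

theorem isRegularHom_cpl (hG : CAlg.IsGRing R) : CAlg.IsRegularHom R (EGA4.Cpl R) :=
  TransLib.isRegularHom_completion_of_isGRing hG

/-- The completion of a discrete valuation G-ring is ind-smooth. -/
theorem indSmooth_cpl (hG : CAlg.IsGRing R) : Smoothing.IndSmooth R (EGA4.Cpl R) := by
  obtain ⟨hflat, hfib⟩ := isRegularHom_cpl R hG
  haveI := hflat
  let p : Ideal R := ⊥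
  haveI : p.IsPrime := Ideal.isPrime_bot
  obtain ⟨hn, hgr⟩ := hfib p
  haveI : IsNoetherianRing (EGA4.Cpl R) := inferInstance
  haveI : IsLocalization.AtPrime p.ResidueField p := TransLib.isLocalization_of_isReduced p
    (by rw [IsDomain.minimalPrimes_eq_singleton_bot]; rfl) (fun r => Ideal.algebraMap_residueField_eq_zero)
    fun z => by
      obtain ⟨a, b, hb, hab⟩ := IsFractionRing.div_surjective (A := R ⧸ p) z
      obtain ⟨a, rfl⟩ := Ideal.Quotient.mk_surjective a
      obtain ⟨b, rfl⟩ := Ideal.Quotient.mk_surjective b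
      refine ⟨a, b, fun h => nonZeroDivisors.ne_zero hb (Ideal.Quotient.eq_zero_iff_mem.2 h), ?_⟩
      rw [← hab, IsScalarTower.algebraMap_apply R (R ⧸ p) p.ResidueField,
        IsScalarTower.algebraMap_apply R (R ⧸ p) p.ResidueField]
      refine div_mul_cancel₀ _ ?_
      exact IsFractionRing.to_map_ne_zero_of_mem_nonZeroDivisors hb
  haveI : IsNoetherianRing (p.ResidueField ⊗[R] EGA4.Cpl R) := hn
  refine TransLib.indSmooth_of_reduced p hgr fun J hJ => indSmooth_of_bijective ?_
  obtain ⟨ϖ, hϖ⟩ := IsDiscreteValuationRing.exists_irreducible R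
  obtain ⟨n, hn'⟩ := IsDiscreteValuationRing.ideal_eq_span_pow_irreducible hJ hϖ
  have hJ' : J = maximalIdeal R ^ n := by rw [hn', hϖ.maximalIdeal_eq, Ideal.span_singleton_pow]
  subst hJ'
  refine ⟨(injective_iff_map_eq_zero _).2 fun a ha => ?_, fun y => ?_⟩
  · obtain ⟨a, rfl⟩ := Ideal.Quotient.mk_surjective a
    exact Ideal.Quotient.eq_zero_iff_mem.2
      (GabberRigidLib.mem_pow_of_map_mem n (Ideal.Quotient.eq_zero_iff_mem.1 ha))
  · obtain ⟨x, rfl⟩ := Ideal.Quotient.mk_surjective y
    obtain ⟨a, ha⟩ := GabberRigidLib.exists_sub_mem_pow (maximalIdeal R).fg_of_isNoetherianRing n x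
    exact ⟨Ideal.Quotient.mk _ a, (Ideal.Quotient.eq.2 ha).symm⟩

theorem exists_approx (n : ℕ) (x : EGA4.Cpl R) :
    ∃ a : R, x - algebraMap R (EGA4.Cpl R) a ∈ maximalIdeal (EGA4.Cpl R) ^ n := by
  obtain ⟨a, ha⟩ := GabberRigidLib.exists_sub_mem_pow (maximalIdeal R).fg_of_isNoetherianRing n x
  exact ⟨a, by rwa [AdicCompletion.maximalIdeal_eq_map, ← Ideal.map_pow]⟩

/-- A henselian excellent discrete valuation ring is algebraically closed in its completion. -/
theorem mem_range_of_isIntegral [HenselianLocalRing R] (hG : CAlg.IsGRing R) (b : EGA4.Cpl R)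
    (hb : IsIntegral R b) : b ∈ (algebraMap R (EGA4.Cpl R)).range := by
  haveI : IsNoetherianRing R := hG.1
  have hinj : Function.Injective (algebraMap R (EGA4.Cpl R)) := AdicCompletion.of_injective _ _
  let g := minpoly R b
  obtain ⟨r, hr, -⟩ := Groth.Agent.S0597.result R (maximalIdeal R) (isRegularHom_cpl R hG) 1 1
    (fun _ => Polynomial.aeval (MvPolynomial.X 0) g) (fun _ => b) (fun _ => by
      rw [MvPolynomial.eval_map, ← MvPolynomial.aeval_def, ← Polynomial.aeval_algHom_apply, MvPolynomial.aeval_X]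
      exact minpoly.aeval R b) 1
  have hr0 : g.IsRoot (r 0) := by
    have := hr 0
    rwa [← MvPolynomial.aeval_eq_eval, ← Polynomial.aeval_algHom_apply, MvPolynomial.aeval_X,
      Polynomial.coe_aeval_eq_eval] at this
  obtain ⟨q, hq⟩ := Polynomial.dvd_iff_isRoot.2 hr0
  have hirr : Irreducible g := minpoly.irreducible hb
  have hqu : IsUnit q := (hirr.isUnit_or_isUnit hq).resolve_left fun h => Polynomial.not_isUnit_X_sub_C _ h
  obtain ⟨c, hc, rfl⟩ := Polynomial.isUnit_iff.1 hqu
  have h0 := minpoly.aeval R b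
  rw [show minpoly R b = _ from hq, map_mul, aeval_C, map_sub, aeval_X, aeval_C] at h0
  refine ⟨r 0, (sub_eq_zero.1 ((mul_eq_zero.1 h0).resolve_right (hc.map _).ne_zero)).symm⟩

end TraitCplLib
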